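import Cfsg.Agent.Lib.Schur.GTwoFour.CoverDefs

/-!
Kernel checks on the double cover of `G₂(4)`: the spanning tree and three relations.
-/

set_option autoImplicit false
set_option maxRecDepth 100000
set_option maxHeartbeats 0
set_option Elab.async false

namespace CfsgLib.Schur.GTwoFour

open CfsgLib.Sporadic.OutCert

/-- A point hangs below an earlier neighbour of the other parity. -/
noncomputable def treeOK (i : ℕ) : Bool :=
  Nat.beq i 0 ||
    (let p := lk 11 parK i
     Nat.blt p i && Nat.blt 0 (tabN i p) && Nat.blt (tabN i p) 5 &&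
      Nat.beq (lk 1 depK i) (1 - lk 1 depK p))

theorem tree_all : allF treeOK 2016 = true ∧ lk 1 depK 0 = 0 := by decide +kernel

theorem odd_ok : oddEdge.1 < 2016 ∧ oddEdge.2 < 2016 ∧ 0 < tabN oddEdge.1 oddEdge.2 ∧
    tabN oddEdge.1 oddEdge.2 < 5 ∧ lk 1 depK oddEdge.1 = lk 1 depK oddEdge.2 := by decide +kernel

theorem rel_z : relOK [0, 0] 2 = true := by decide +kernel

theorem rel_c : relOK (List.replicate 13 1) 0 = true := by decide +kernel

theorem rel_ac : relOK (List.replicate 13 [0, 1, 1]).flatten 0 = true := by decide +kernel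

end CfsgLib.Schur.GTwoFour
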