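import Cfsg.Agent.Lib.Schur.GTwoFour.CoverDefs

/-!
Kernel check: generator 1 respects the entries of all pairs.
-/

set_option autoImplicit false
set_option maxRecDepth 100000
set_option maxHeartbeats 0
set_option Elab.async false

namespace CfsgLib.Schur.GTwoFour

open CfsgLib.Sporadic.OutCert

theorem good_gen1_0 : allF (fun d => goodK 1 (0 + d)) 63 = true := by decide +kernel

theorem good_gen1_1 : allF (fun d => goodK 1 (63 + d)) 63 = true := by decide +kernel

theorem good_gen1_2 : allF (fun d => goodK 1 (126 + d)) 63 = true := by decide +kernel

theorem good_gen1_3 : allF (fun d => goodK 1 (189 + d)) 63 = true := by decide +kernel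

theorem good_gen1_4 : allF (fun d => goodK 1 (252 + d)) 63 = true := by decide +kernel

theorem good_gen1_5 : allF (fun d => goodK 1 (315 + d)) 63 = true := by decide +kernel

theorem good_gen1_6 : allF (fun d => goodK 1 (378 + d)) 63 = true := by decide +kernel

theorem good_gen1_7 : allF (fun d => goodK 1 (441 + d)) 63 = true := by decide +kernel

theorem good_gen1_8 : allF (fun d => goodK 1 (504 + d)) 63 = true := by decide +kernel

theorem good_gen1_9 : allF (fun d => goodK 1 (567 + d)) 63 = true := by decide +kernel

theorem good_gen1_10 : allF (fun d => goodK 1 (630 + d)) 63 = true := by decide +kernel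

theorem good_gen1_11 : allF (fun d => goodK 1 (693 + d)) 63 = true := by decide +kernel

theorem good_gen1_12 : allF (fun d => goodK 1 (756 + d)) 63 = true := by decide +kernel

theorem good_gen1_13 : allF (fun d => goodK 1 (819 + d)) 63 = true := by decide +kernel

theorem good_gen1_14 : allF (fun d => goodK 1 (882 + d)) 63 = true := by decide +kernel

theorem good_gen1_15 : allF (fun d => goodK 1 (945 + d)) 63 = true := by decide +kernel

theorem good_gen1_16 : allF (fun d => goodK 1 (1008 + d)) 63 = true := by decide +kernel

theorem good_gen1_17 : allF (fun d => goodK 1 (1071 + d)) 63 = true := by decide +kernel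

theorem good_gen1_18 : allF (fun d => goodK 1 (1134 + d)) 63 = true := by decide +kernel

theorem good_gen1_19 : allF (fun d => goodK 1 (1197 + d)) 63 = true := by decide +kernel

theorem good_gen1_20 : allF (fun d => goodK 1 (1260 + d)) 63 = true := by decide +kernel

theorem good_gen1_21 : allF (fun d => goodK 1 (1323 + d)) 63 = true := by decide +kernel

theorem good_gen1_22 : allF (fun d => goodK 1 (1386 + d)) 63 = true := by decide +kernel

theorem good_gen1_23 : allF (fun d => goodK 1 (1449 + d)) 63 = true := by decide +kernel

theorem good_gen1_24 : allF (fun d => goodK 1 (1512 + d)) 63 = true := by decide +kernel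

theorem good_gen1_25 : allF (fun d => goodK 1 (1575 + d)) 63 = true := by decide +kernel

theorem good_gen1_26 : allF (fun d => goodK 1 (1638 + d)) 63 = true := by decide +kernel

theorem good_gen1_27 : allF (fun d => goodK 1 (1701 + d)) 63 = true := by decide +kernel

theorem good_gen1_28 : allF (fun d => goodK 1 (1764 + d)) 63 = true := by decide +kernel

theorem good_gen1_29 : allF (fun d => goodK 1 (1827 + d)) 63 = true := by decide +kernel

theorem good_gen1_30 : allF (fun d => goodK 1 (1890 + d)) 63 = true := by decide +kernel

theorem good_gen1_31 : allF (fun d => goodK 1 (1953 + d)) 63 = true := by decide +kernel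

theorem good_gen1 : allF (goodK 1) 2016 = true := allF_iff.2 fun i hi => by
  have key : ∀ k < 32, allF (fun d => goodK 1 (63 * k + d)) 63 = true := by
    intro k hk
    match k, hk with
    | 0, _ => exact good_gen1_0
    | 1, _ => exact good_gen1_1
    | 2, _ => exact good_gen1_2
    | 3, _ => exact good_gen1_3
    | 4, _ => exact good_gen1_4
    | 5, _ => exact good_gen1_5
    | 6, _ => exact good_gen1_6
    | 7, _ => exact good_gen1_7
    | 8, _ => exact good_gen1_8
    | 9, _ => exact good_gen1_9
    | 10, _ => exact good_gen1_10
    | 11, _ => exact good_gen1_11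
    | 12, _ => exact good_gen1_12
    | 13, _ => exact good_gen1_13
    | 14, _ => exact good_gen1_14
    | 15, _ => exact good_gen1_15
    | 16, _ => exact good_gen1_16
    | 17, _ => exact good_gen1_17
    | 18, _ => exact good_gen1_18
    | 19, _ => exact good_gen1_19
    | 20, _ => exact good_gen1_20
    | 21, _ => exact good_gen1_21
    | 22, _ => exact good_gen1_22
    | 23, _ => exact good_gen1_23
    | 24, _ => exact good_gen1_24
    | 25, _ => exact good_gen1_25
    | 26, _ => exact good_gen1_26
    | 27, _ => exact good_gen1_27
    | 28, _ => exact good_gen1_28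
    | 29, _ => exact good_gen1_29
    | 30, _ => exact good_gen1_30
    | 31, _ => exact good_gen1_31
    | k + 32, h => omega
  have h := allF_iff.1 (key (i / 63) (Nat.div_lt_iff_lt_mul (by norm_num) |>.2 (by omega))) (i % 63)
    (Nat.mod_lt _ (by norm_num))
  rwa [Nat.div_add_mod] at h

end CfsgLib.Schur.GTwoFour
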