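import Cfsg.Agent.Lib.Schur.GTwoFour.Model
import Cfsg.Agent.Lib.Schur.GTwoFour.CoverCheck
import Cfsg.Agent.Lib.Schur.GTwoFour.CoverCheck0
import Cfsg.Agent.Lib.Schur.GTwoFour.CoverCheck1
import Cfsg.Agent.Lib.Schur.Basic

/-!
The double cover of `G₂(4)` as permutations of 2016 points times four sheets.
-/

set_option autoImplicit false
set_option maxRecDepth 20000

namespace CfsgLib.Schur.GTwoFour

open CfsgLib.Sporadic CfsgLib.Sporadic.OutCert Subgroup

attribute [local irreducible] tabN lowN imN shN lk evalK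

/-- The labels of the sheets. -/
abbrev Z4 : Type := ZMod 4

/-- The points of the cover. -/
abbrev Sheet : Type := Fin 2016 × Z4

/-- A permutation of the points with shifts. -/
def liftP (p : Equiv.Perm (Fin 2016)) (c : Fin 2016 → Z4) : Equiv.Perm Sheet where
  toFun x := (p x.1, x.2 + c x.1)
  invFun x := (p.symm x.1, x.2 - c (p.symm x.1))
  left_inv x := by simp
  right_inv x := by simp

theorem liftP_mul (p q : Equiv.Perm (Fin 2016)) (c d : Fin 2016 → Z4) :
    liftP p c * liftP q d = liftP (p * q) (fun i => d i + c (q i)) :=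
  Equiv.ext fun _ => Prod.ext rfl (add_assoc _ _ _)

theorem liftP_one : (1 : Equiv.Perm Sheet) = liftP 1 0 := Equiv.ext fun x => by simp [liftP]

theorem liftP_inj {p q : Equiv.Perm (Fin 2016)} {c d : Fin 2016 → Z4} (h : liftP p c = liftP q d) :
    p = q ∧ c = d :=
  ⟨Equiv.ext fun i => congrArg Prod.fst (Equiv.congr_fun h (i, 0)),
    funext fun i => by simpa [liftP] using congrArg Prod.snd (Equiv.congr_fun h (i, 0))⟩

/-- Shifts compatible with the pairs. -/
def Good (p : Equiv.Perm (Fin 2016)) (c : Fin 2016 → Z4) : Prop :=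
  ∀ (i j : Fin 2016) (f : Z4), tabN i j = 1 + f.val → tabN (p i) (p j) = 1 + (f + c i + c j).val

theorem good_one : Good 1 0 := fun i j f h => by simpa using h

theorem good_mul {p q : Equiv.Perm (Fin 2016)} {c d : Fin 2016 → Z4} (hp : Good p c) (hq : Good q d) :
    Good (p * q) (fun i => d i + c (q i)) := fun i j f h => by
  rw [Equiv.Perm.mul_apply, Equiv.Perm.mul_apply, hp _ _ _ (hq i j f h)]
  congr 2
  ring

/-- The permutations with compatible shifts. -/
def movers : Subgroup (Equiv.Perm Sheet) where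
  carrier := {π | ∃ p c, π = liftP p c ∧ Good p c}
  one_mem' := ⟨1, 0, liftP_one, good_one⟩
  mul_mem' := by
    rintro _ _ ⟨p, c, rfl, hp⟩ ⟨q, d, rfl, hq⟩
    exact ⟨_, _, liftP_mul p q c d, good_mul hp hq⟩
  inv_mem' := by
    rintro g ⟨p, c, rfl, hp⟩
    have h : ∀ n : ℕ, ∃ q d, liftP p c ^ n = liftP q d ∧ Good q d := by
      intro n
      induction n with
      | zero => exact ⟨1, 0, by rw [pow_zero, liftP_one], good_one⟩
      | succ n ih =>
        obtain ⟨q, d, e, hq⟩ := ih
        exact ⟨_, _, by rw [pow_succ, e, liftP_mul], good_mul hq hp⟩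
    have hg' : (liftP p c)⁻¹ = liftP p c ^ (orderOf (liftP p c) - 1) := inv_eq_of_mul_eq_one_right (by
      rw [← pow_succ', Nat.sub_add_cancel (orderOf_pos _), pow_orderOf_eq_one])
    show ∃ q d, (liftP p c)⁻¹ = liftP q d ∧ Good q d
    rw [hg']
    exact h _

/-- The shifts of a lifted generator. -/
noncomputable def sh (m : Fin 2) (i : Fin 2016) : Z4 := ((shN m i : ℕ) : Z4)

theorem imN_eq (m : Fin 2) (i : Fin 2016) : imN m i = (psi (gen m) i : ℕ) := by
  unfold imN
  exact gen_rep m i

theorem flip_code : ∀ f : Z4, flipN (1 + f.val) = 1 + (f + 2).val := by decide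

theorem code_flip : ∀ v < 5, ∀ f : Z4, flipN v = 1 + f.val → v = 1 + (f + 2).val := by decide

theorem two_add_two : ∀ f : Z4, f + 2 + 2 = f := by decide

theorem code_sum : ∀ (f : Z4) (a b : ℕ), 1 + (((1 + f.val) - 1) + a + b) % 4 = 1 + (f + (a : Z4) + (b : Z4)).val := by
  intro f a b
  rw [ZMod.val_add, ZMod.val_add, ZMod.val_natCast, ZMod.val_natCast, Nat.add_sub_cancel_left]
  omega

theorem good_row (m : Fin 2) (i : Fin 2016) : goodK m i = true := by
  fin_cases m
  · exact allF_iff.1 good_gen0 i i.2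
  · exact allF_iff.1 good_gen1 i i.2

theorem lgen_good (m : Fin 2) : Good (psi (gen m)) (sh m) := by
  have low : ∀ (i j : Fin 2016) (f : Z4), j.val < i.val → lowN i j = 1 + f.val →
      tabN (psi (gen m) i) (psi (gen m) j) = 1 + (f + sh m i + sh m j).val := by
    intro i j f hji h
    have hb := good_row m i
    simp only [goodK, allF_iff, Bool.or_eq_true, Bool.and_eq_true, Nat.beq_eq, Nat.blt_eq] at hb
    rcases hb j hji with h0 | ⟨-, h1⟩
    · omega
    rw [← imN_eq, ← imN_eq, h1, h, code_sum]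
    rfl
  have bound : ∀ i j : Fin 2016, j.val < i.val → lowN i j < 5 := by
    intro i j hji
    have hb := good_row m i
    simp only [goodK, allF_iff, Bool.or_eq_true, Bool.and_eq_true, Nat.beq_eq, Nat.blt_eq] at hb
    rcases hb j hji with h0 | ⟨h1, -⟩ <;> omega
  have hlow : ∀ i j : ℕ, j < i → tabN i j = lowN i j := fun i j h => by
    unfold tabN; rw [show Nat.blt j i = true from Nat.blt_eq ▸ h, cond_true]
  have hup : ∀ i j : ℕ, i < j → tabN i j = flipN (lowN j i) := fun i j h => by
    unfold tabN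
    rw [show Nat.blt j i = false from Bool.eq_false_iff.2 fun e => by rw [Nat.blt_eq] at e; omega,
      cond_false, show Nat.blt i j = true from Nat.blt_eq ▸ h, cond_true]
  have hdiag : ∀ i : ℕ, tabN i i = 0 := fun i => by
    unfold tabN
    rw [show Nat.blt i i = false from Bool.eq_false_iff.2 fun e => by rw [Nat.blt_eq] at e; omega,
      cond_false, cond_false]
  have rev : ∀ (a b : Fin 2016) (g : Z4), tabN a b = 1 + g.val → tabN b a = 1 + (g + 2).val := by
    intro a b g h
    rcases lt_trichotomy a.val b.val with hab | hab | hab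
    · rw [hup _ _ hab] at h
      rw [hlow _ _ hab]
      exact code_flip _ (bound b a hab) g h
    · rw [hab, hdiag] at h; omega
    · rw [hlow _ _ hab] at h
      rw [hup _ _ hab, h, flip_code]
  intro i j f h
  rcases lt_trichotomy j.val i.val with hji | hji | hji
  · exact low i j f hji ((hlow _ _ hji).symm.trans h)
  · rw [hji, hdiag] at h; omega
  · have h2 := rev i j f h
    have h3 := rev _ _ _ (low j i (f + 2) hji ((hlow _ _ hji).symm.trans h2))
    rw [h3]
    congr 2
    rw [show f + 2 + sh m j + sh m i + 2 = f + 2 + 2 + sh m i + sh m j by ring, two_add_two]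

/-- The lifted generators. -/
noncomputable def lgen (m : Fin 2) : Equiv.Perm Sheet := liftP (psi (gen m)) (sh m)

/-- The cover. -/
noncomputable abbrev Gam : Subgroup (Equiv.Perm Sheet) := Subgroup.closure (Set.range lgen)

theorem gam_le : Gam ≤ movers :=
  (Subgroup.closure_le _).2 (by rintro _ ⟨m, rfl⟩; exact ⟨_, _, rfl, lgen_good m⟩)

/-- The underlying permutation of the points. -/
noncomputable def sigma₁ : Gam →* Equiv.Perm (Fin 2016) :=
  MonoidHom.mk' (fun π => (gam_le π.2).choose) fun a b => by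
    obtain ⟨c, ea, -⟩ := (gam_le a.2).choose_spec
    obtain ⟨d, eb, -⟩ := (gam_le b.2).choose_spec
    obtain ⟨e, eab, -⟩ := (gam_le (a * b).2).choose_spec
    have eab' : (a : Equiv.Perm Sheet) * (b : Equiv.Perm Sheet) = _ := eab
    exact (liftP_inj (eab'.symm.trans ((congrArg₂ (· * ·) ea eb).trans (liftP_mul _ _ c d)))).1

theorem sigma₁_spec (π : Gam) : ∃ c, (π : Equiv.Perm Sheet) = liftP (sigma₁ π) c ∧ Good (sigma₁ π) c :=
  (gam_le π.2).choose_spec

/-- A lifted generator in the cover. -/
noncomputable def gG (m : Fin 2) : Gam := ⟨lgen m, Subgroup.subset_closure ⟨m, rfl⟩⟩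

theorem sigma₁_gen (m : Fin 2) : sigma₁ (gG m) = psi (gen m) := by
  obtain ⟨c, e, -⟩ := sigma₁_spec (gG m)
  exact (liftP_inj e).1.symm

theorem gG_closure : Subgroup.closure (Set.range gG) = ⊤ := by
  apply Subgroup.map_injective Gam.subtype_injective
  rw [MonoidHom.map_closure, ← Set.range_comp, ← MonoidHom.range_eq_map, Subgroup.range_subtype]
  rfl

theorem sigma₁_range_le : sigma₁.range ≤ psi.range := by
  rw [MonoidHom.range_eq_map, ← gG_closure, MonoidHom.map_closure, Subgroup.closure_le]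
  rintro _ ⟨_, ⟨m, rfl⟩, rfl⟩
  exact ⟨gen m, (sigma₁_gen m).symm⟩

theorem eightK_mem (m : ℕ) (hm : m < eightK.length) :
    ∃ π : Gam, Rep 11 2016 (eightK.getD m 0) (sigma₁ π) := by
  have h := allF_iff.1 words_back m (by rw [← eight_lt.2.1]; exact hm)
  simp only [wordOK, Bool.and_eq_true, List.all_eq_true, Nat.blt_eq, allF_iff, Nat.beq_eq] at h
  obtain ⟨hl, he⟩ := h
  have key : ∀ l : List ℕ, (∀ m ∈ l, m < baseK.length) → ∃ π : Gam, ∀ i : Fin 2016,
      wImg baseK l i = (sigma₁ π i : ℕ) := by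
    intro l hl
    induction l with
    | nil => exact ⟨1, fun i => by simp [wImg]⟩
    | cons m l ih =>
      obtain ⟨π, hπ⟩ := ih fun x hx => hl x (List.mem_cons_of_mem _ hx)
      have hm : m < 2 := eight_lt.1 ▸ hl m List.mem_cons_self
      refine ⟨gG ⟨m, hm⟩ * π, fun i => ?_⟩
      show lk 11 (baseK.getD m 0) (wImg baseK l i) = _
      rw [hπ i, map_mul, Equiv.Perm.mul_apply, sigma₁_gen, gen_rep ⟨m, hm⟩]
  obtain ⟨π, hπ⟩ := key _ hl
  exact ⟨π, fun i => (he i i.2).symm.trans (hπ i)⟩

theorem root_mem {q : ℕ} (hq : q < 36) : psi (root q) ∈ sigma₁.range := by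
  have h := allF_iff.1 words_root q hq
  simp only [wordOK, Bool.and_eq_true, List.all_eq_true, Nat.blt_eq, allF_iff, Nat.beq_eq] at h
  obtain ⟨hl, he⟩ := h
  have key : ∀ l : List ℕ, (∀ m ∈ l, m < eightK.length) → ∃ π : Gam, ∀ i : Fin 2016,
      wImg eightK l i = (sigma₁ π i : ℕ) := by
    intro l hl
    induction l with
    | nil => exact ⟨1, fun i => by simp [wImg]⟩
    | cons m l ih =>
      obtain ⟨π, hπ⟩ := ih fun x hx => hl x (List.mem_cons_of_mem _ hx)
      obtain ⟨ρ, hρ⟩ := eightK_mem m (hl m List.mem_cons_self)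
      refine ⟨ρ * π, fun i => ?_⟩
      show lk 11 (eightK.getD m 0) (wImg eightK l i) = _
      rw [hπ i, map_mul, Equiv.Perm.mul_apply, hρ]
  obtain ⟨π, hπ⟩ := key _ hl
  exact ⟨π, Equiv.ext fun i => Fin.ext (((hπ i).symm.trans (he i i.2)).trans (rep_root hq i))⟩

theorem psi_mem (g : G) : psi g ∈ sigma₁.range := by
  refine (?_ : (⊤ : Subgroup G) ≤ sigma₁.range.comap psi) (Subgroup.mem_top g)
  rw [← closure_root, Subgroup.closure_le]
  rintro _ ⟨q, hq, rfl⟩
  exact root_mem hq

/-- The projection. -/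
noncomputable def sigma : Gam →* G :=
  (MonoidHom.ofInjective psi_injective).symm.toMonoidHom.comp
    (sigma₁.codRestrict psi.range fun π => sigma₁_range_le ⟨π, rfl⟩)

theorem psi_sigma (π : Gam) : psi (sigma π) = sigma₁ π := by
  have h := (MonoidHom.ofInjective psi_injective).apply_symm_apply
    (sigma₁.codRestrict psi.range (fun π => sigma₁_range_le ⟨π, rfl⟩) π)
  exact congrArg Subtype.val h

theorem sigma_surjective : Function.Surjective sigma := fun g => by
  obtain ⟨π, hπ⟩ := psi_mem g
  exact ⟨π, psi_injective ((psi_sigma π).trans hπ)⟩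

theorem edge_code {v : ℕ} (h0 : 0 < v) (h5 : v < 5) : ∃ f : Z4, v = 1 + f.val :=
  ⟨((v - 1 : ℕ) : Z4), by rw [ZMod.val_natCast, Nat.mod_eq_of_lt (by omega)]; omega⟩

theorem const_of_good {e : Fin 2016 → Z4} (h : Good 1 e) : (e 0 + e 0 = 0) ∧ ∀ x, e x = e 0 := by
  have edge : ∀ (i j : Fin 2016), 0 < tabN i j → tabN i j < 5 → e i + e j = 0 := by
    intro i j h0 h5
    obtain ⟨f, hf⟩ := edge_code h0 h5
    have h1 := h i j f hf
    rw [Equiv.Perm.one_apply, Equiv.Perm.one_apply, hf] at h1
    have h2 := ZMod.val_injective 4 (Nat.add_left_cancel h1)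
    rwa [add_assoc, left_eq_add] at h2
  have key : ∀ n, ∀ hn : n < 2016, e ⟨n, hn⟩ = if lk 1 depK n = 0 then e 0 else -(e 0) := by
    intro n
    induction n using Nat.strong_induction_on with
    | _ n ih =>
      intro hn
      have ht := allF_iff.1 tree_all.1 n hn
      simp only [treeOK, Bool.or_eq_true, Bool.and_eq_true, Nat.beq_eq, Nat.blt_eq] at ht
      rcases ht with rfl | ⟨⟨⟨hp, h0⟩, h5⟩, hd⟩
      · rw [if_pos tree_all.2]; exact congrArg e (Fin.ext rfl)
      have hpn : lk 11 parK n < 2016 := hp.trans hn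
      have he := edge ⟨n, hn⟩ ⟨_, hpn⟩ h0 h5
      rw [ih _ hp hpn] at he
      have hb : lk 1 depK (lk 11 parK n) < 2 := by unfold lk; exact Nat.mod_lt _ (by norm_num)
      rcases Nat.lt_succ_iff.1 hb |>.eq_or_lt with h1 | h1
      · rw [if_neg (by omega)] at he
        rw [if_pos (by omega)]
        linear_combination he
      · rw [if_pos (by omega)] at he
        rw [if_neg (by omega)]
        linear_combination he
  obtain ⟨ha, hb, h0, h5, hd⟩ := odd_ok
  have ho := edge ⟨_, ha⟩ ⟨_, hb⟩ h0 h5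
  rw [key _ ha, key _ hb, hd] at ho
  have h2 : e 0 + e 0 = 0 := by
    revert ho
    split_ifs
    · exact id
    · intro h; linear_combination -h
  refine ⟨h2, fun x => ?_⟩
  rw [key x x.2]
  split_ifs
  · rfl
  · linear_combination -h2

/-- The shift of all sheets. -/
def shift (a : Z4) : Equiv.Perm Sheet := liftP 1 fun _ => a

theorem shift_comm (a : Z4) (p : Equiv.Perm (Fin 2016)) (c : Fin 2016 → Z4) :
    shift a * liftP p c = liftP p c * shift a := by
  rw [shift, liftP_mul, liftP_mul, one_mul, mul_one]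
  exact congrArg (liftP p) (funext fun i => add_comm _ _)

theorem ker_eq {π : Gam} (h : π ∈ sigma.ker) : (π : Equiv.Perm Sheet) = 1 ∨ (π : Equiv.Perm Sheet) = shift 2 := by
  obtain ⟨c, e, hc⟩ := sigma₁_spec π
  have h1 : sigma₁ π = 1 := by rw [← psi_sigma, MonoidHom.mem_ker.1 h, map_one]
  rw [h1] at e hc
  obtain ⟨h2, hconst⟩ := const_of_good hc
  have hcases : ∀ a : Z4, a + a = 0 → a = 0 ∨ a = 2 := by decide
  rcases hcases _ h2 with h0 | h0
  · exact Or.inl (e.trans (by rw [liftP_one]; exact congrArg (liftP 1) (funext fun i => (hconst i).trans h0)))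
  · exact Or.inr (e.trans (congrArg (liftP 1) (funext fun i => (hconst i).trans h0)))

theorem ker_le_center : sigma.ker ≤ Subgroup.center Gam := by
  intro π hπ
  refine Subgroup.mem_center_iff.2 fun g => Subtype.ext ?_
  rw [Subgroup.coe_mul, Subgroup.coe_mul]
  rcases ker_eq hπ with h | h
  · rw [h, one_mul, mul_one]
  · obtain ⟨c, e, -⟩ := sigma₁_spec g
    rw [h, e]
    exact (shift_comm 2 _ c).symm

/-- The product of lifted generators along a word. -/
noncomputable def wG (w : List (Fin 2)) : Gam := (w.map gG).prod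

theorem wG_eval : ∀ w : List (Fin 2), ∃ (p : Equiv.Perm (Fin 2016)) (c : Fin 2016 → Z4),
    (wG w : Equiv.Perm Sheet) = liftP p c ∧
      ∀ i : Fin 2016, evalK (w.map Fin.val) i = ((p i).val, (c i).val)
  | [] => ⟨1, 0, by simp [wG, liftP_one], fun i => by unfold evalK; simp⟩
  | m :: w => by
    obtain ⟨p, c, e, hev⟩ := wG_eval w
    refine ⟨psi (gen m) * p, fun i => c i + sh m (p i), ?_, fun i => ?_⟩
    · show ((gG m * wG w : Gam) : Equiv.Perm Sheet) = _
      rw [Subgroup.coe_mul, e]
      exact liftP_mul _ _ _ _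
    · have h := hev i
      unfold evalK at h ⊢
      simp only [List.map_cons] at h ⊢
      rw [h, imN_eq, sh, ZMod.val_add, ZMod.val_natCast, Nat.add_mod_mod, Equiv.Perm.mul_apply]

theorem wG_of_rel {w : List (Fin 2)} {s : ℕ} (hs : s < 4) (h : relOK (w.map Fin.val) s = true) :
    (wG w : Equiv.Perm Sheet) = shift (s : Z4) := by
  obtain ⟨p, c, e, hev⟩ := wG_eval w
  simp only [relOK, allF_iff, Bool.and_eq_true, Nat.beq_eq] at h
  rw [e]
  have hp : p = 1 := Equiv.ext fun i => Fin.ext (by
    have := (h i i.2).1; rw [hev i] at this; exact this)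
  have hc : c = fun _ => (s : Z4) := funext fun i => ZMod.val_injective 4 (by
    have := (h i i.2).2; rw [hev i] at this
    rw [ZMod.val_natCast, Nat.mod_eq_of_lt hs]; exact this)
  rw [hp, hc]; rfl

theorem z_exists : ∃ z : Gam, (z : Equiv.Perm Sheet) = shift 2 :=
  ⟨wG [0, 0], by
    have := wG_of_rel (w := [0, 0]) (s := 2) (by norm_num) rel_z
    exact this⟩

theorem shift_two_ne : shift 2 ≠ 1 := fun h => by
  have := congrArg (fun π : Equiv.Perm Sheet => (π (0, 0)).2) h
  simp [shift, liftP] at this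
  exact absurd this (by decide)

theorem card_ker : Nat.card sigma.ker = 2 := by
  obtain ⟨z, hz⟩ := z_exists
  have hzk : z ∈ sigma.ker := by
    obtain ⟨c, e, -⟩ := sigma₁_spec z
    rw [hz] at e
    refine MonoidHom.mem_ker.2 (psi_injective ?_)
    rw [psi_sigma, map_one, ← (liftP_inj e).1]
  refine Nat.card_eq_two_iff.2 ⟨1, ⟨z, hzk⟩, fun h => shift_two_ne ?_, Set.eq_univ_of_forall fun q => ?_⟩
  · rw [← hz]
    exact congrArg (fun q : sigma.ker => ((q : Gam) : Equiv.Perm Sheet)) h.symm
  · rcases ker_eq q.2 with h | h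
    · exact Or.inl (Subtype.ext (Subtype.ext h))
    · exact Or.inr (Subtype.ext (Subtype.ext (h.trans hz.symm)))

theorem not_comm_G : ¬ ∀ a b : G, a * b = b * a := fun h => by
  haveI := isSimple_G
  letI : CommGroup G := { (inferInstance : Group G) with mul_comm := h }
  haveI : Finite G := Nat.finite_of_card_ne_zero (by rw [card_G]; norm_num)
  have := IsSimpleGroup.prime_card (α := G)
  rw [card_G] at this
  norm_num at this

theorem commutator_eq_top_of_simple {H : Type*} [Group H] [IsSimpleGroup H] (h : ¬ ∀ a b : H, a * b = b * a) :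
    commutator H = ⊤ :=
  (Subgroup.Normal.eq_bot_or_eq_top (H := commutator H) inferInstance).resolve_left fun hb => h fun a b =>
    commutatorElement_eq_one_iff_mul_comm.1
      (Subgroup.mem_bot.1 (hb ▸ Subgroup.commutator_mem_commutator (Subgroup.mem_top a) (Subgroup.mem_top b)))

/-- A central extension by an involution of a perfect group is perfect when it is generated by two
elements with the relations `b ^ 13 = 1` and `(a * b * b) ^ 13 = 1`. -/
theorem commutator_eq_top_of_rels {Γ H : Type*} [Group Γ] [Group H] (σ : Γ →* H)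
    (hσ : Function.Surjective σ) (hH : commutator H = ⊤) (hc : σ.ker ≤ Subgroup.center Γ)
    (h2 : ∀ k ∈ σ.ker, k ^ 2 = 1) (a b : Γ) (hab : Subgroup.closure {a, b} = ⊤)
    (hb : b ^ 13 = 1) (habb : (a * b * b) ^ 13 = 1) : commutator Γ = ⊤ := by
  have hsq : ∀ π : Γ, π ^ 2 ∈ commutator Γ := by
    intro π
    obtain ⟨d, hd, hde⟩ : σ π ∈ (commutator Γ).map σ := by
      rw [_root_.commutator_def, Subgroup.map_commutator, ← MonoidHom.range_eq_map,
        MonoidHom.range_eq_top.2 hσ, ← _root_.commutator_def, hH]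
      exact Subgroup.mem_top _
    have hk : d⁻¹ * π ∈ σ.ker := by rw [MonoidHom.mem_ker, map_mul, map_inv, hde, inv_mul_cancel]
    have hcd := Subgroup.mem_center_iff.1 (hc hk) d
    have e := (show Commute d (d⁻¹ * π) from hcd).mul_pow 2
    rw [mul_inv_cancel_left, h2 _ hk, mul_one] at e
    rw [e]
    exact Subgroup.pow_mem _ hd _
  have hodd : ∀ π : Γ, π ^ 13 = 1 → π ∈ commutator Γ := by
    intro π h
    have : π = ((π ^ 2) ^ 6)⁻¹ := by rw [← pow_mul, eq_inv_iff_mul_eq_one, ← pow_succ', h]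
    rw [this]
    exact Subgroup.inv_mem _ (Subgroup.pow_mem _ (hsq π) _)
  have h1 := hodd _ hb
  have h0 : a ∈ commutator Γ :=
    (Subgroup.mul_mem_cancel_right _ h1).1 ((Subgroup.mul_mem_cancel_right _ h1).1 (hodd _ habb))
  refine eq_top_iff.2 (hab ▸ (Subgroup.closure_le _).2 ?_)
  rintro x (rfl | rfl)
  · exact h0
  · exact h1

theorem commutator_top : commutator Gam = ⊤ := by
  haveI := isSimple_G
  have one_of : ∀ w : List (Fin 2), relOK (w.map Fin.val) 0 = true → wG w = 1 := fun w h => Subtype.ext (by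
    rw [wG_of_rel (by norm_num) h, Subgroup.coe_one, liftP_one]
    exact congrArg (liftP 1) (funext fun _ => Nat.cast_zero))
  refine commutator_eq_top_of_rels sigma sigma_surjective (commutator_eq_top_of_simple not_comm_G)
    ker_le_center (fun k hk => Subtype.ext ?_) (gG 0) (gG 1) ?_ ?_ ?_
  · rw [Subgroup.coe_pow, Subgroup.coe_one]
    rcases ker_eq hk with h | h
    · rw [h, one_pow]
    · rw [h, pow_two, shift, liftP_mul, one_mul, liftP_one]
      exact congrArg (liftP 1) (funext fun _ => (by decide : (2 : Z4) + 2 = 0))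
  · rw [← gG_closure]
    congr 1
    ext x
    simp [Fin.exists_fin_two, eq_comm]
  · have e : gG 1 ^ 13 = wG (List.replicate 13 1) :=
      (by intro n; simp [wG] : ∀ n, gG 1 ^ n = wG (List.replicate n 1)) 13
    rw [e, one_of _ (by simpa using rel_c)]
  · have e : (gG 0 * gG 1 * gG 1) ^ 13 = wG (List.replicate 13 [0, 1, 1]).flatten :=
      (by intro n; simp [wG, List.map_flatten, List.prod_flatten, mul_assoc] :
        ∀ n, (gG 0 * gG 1 * gG 1) ^ n = wG (List.replicate n [0, 1, 1]).flatten) 13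
    rw [e, one_of _ (by simpa [List.map_flatten] using rel_ac)]

theorem isStem : Cfsg.IsStemExtension sigma :=
  ⟨sigma_surjective, ker_le_center, by rw [commutator_top]; exact le_top⟩

end CfsgLib.Schur.GTwoFour
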