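import Cfsg.Agent.Lib.Schur.GTwoFour.Data
import Cfsg.Agent.Lib.Schur.GTwoFour.CoverData
import Cfsg.Agent.Lib.Sporadic.OutCert.Perm

/-!
Definitions of the checks on the double cover of `G₂(4)`.
-/

set_option autoImplicit false

namespace CfsgLib.Schur.GTwoFour

open CfsgLib.Sporadic.OutCert

/-- An entry below the diagonal. -/
noncomputable def lowN (i j : ℕ) : ℕ := lk 3 ((lowT.getD (i / 48) []).getD (i % 48) 0) j

/-- The entry of the opposite pair. -/
noncomputable def flipN (v : ℕ) : ℕ := bif Nat.beq v 0 then 0 else 1 + ((v - 1) + 2) % 4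

/-- The entry of a pair. -/
noncomputable def tabN (i j : ℕ) : ℕ :=
  bif Nat.blt j i then lowN i j else bif Nat.blt i j then flipN (lowN j i) else 0

/-- The image of a point under a generator. -/
noncomputable def imN (m i : ℕ) : ℕ := lk 11 (baseK.getD m 0) i

/-- The shift at a point of a generator. -/
noncomputable def shN (m i : ℕ) : ℕ := lk 2 (cK.getD m 0) i

/-- A generator respects the entries of a row. -/
noncomputable def goodK (m i : ℕ) : Bool :=
  allF (fun j =>
    let v := lowN i j
    Nat.beq v 0 ||
      (Nat.blt v 5 && Nat.beq (tabN (imN m i) (imN m j)) (1 + ((v - 1) + shN m i + shN m j) % 4))) i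

/-- A point and the total shift of a word. -/
noncomputable def evalK (w : List ℕ) (i : ℕ) : ℕ × ℕ :=
  List.rec (motive := fun _ => ℕ × ℕ) (i, 0) (fun m _ ih => (imN m ih.1, (ih.2 + shN m ih.1) % 4)) w

/-- A word moves nothing and shifts by a constant. -/
noncomputable def relOK (w : List ℕ) (s : ℕ) : Bool :=
  allF (fun i => Nat.beq (evalK w i).1 i && Nat.beq (evalK w i).2 s) 2016

end CfsgLib.Schur.GTwoFour
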