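import Cfsg.Agent.Lib.Schur.GTwoFour.Cover
import Cfsg.Agent.Lib.Schur.GTwoFour.Check2
import Cfsg.Agent.Lib.Schur.GTwoFour.Check3
import Cfsg.Agent.Lib.Schur.GTwoFour.Check5
import Cfsg.Agent.Lib.Chevalley.G2Two.Transfer

/-!
The multiplier of `G₂(4)` has order two.
-/

set_option autoImplicit false
set_option maxRecDepth 100000

namespace CfsgLib.Schur.GTwoFour

open CfsgLib.Sporadic CfsgLib.Sporadic.OutCert

attribute [local irreducible] lk pkF allF compK slpTab2 slpTab3 slpTab5 kk2 kk3 kk5 gk2 gk3 gk5 ordK baseK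

theorem hw : 2016 ≤ 2 ^ 11 := by norm_num

theorem base_mem {tab : List ℕ} (h : tab.take 2 = baseK) :
    ∀ i < 2, ∃ q : G, Rep 11 2016 (tab.getD i (oneK 11 2016)) (psi q) := by
  intro i hi
  refine ⟨gen ⟨i, hi⟩, ?_⟩
  have hl : i < baseK.length := by
    have e : baseK.length = 2 := by decide +kernel
    omega
  have e : tab.getD i (oneK 11 2016) = (tab.take 2).getD i (oneK 11 2016) := by
    simp [List.getD_eq_getElem?_getD, List.getElem?_take, hi]
  rw [e, h, List.getD_eq_getElem _ _ hl, ← List.getD_eq_getElem _ 0 hl]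
  exact gen_rep ⟨i, hi⟩

theorem card_ker_le (Γ : Type) [Group Γ] [Finite Γ] (σ : Γ →* G) (hσ : Cfsg.IsStemExtension σ) :
    Nat.card σ.ker ≤ 2 := by
  haveI : Finite G := Nat.finite_of_card_ne_zero (by rw [card_G]; norm_num)
  refine Tails.card_ker_le σ hσ two_ne_zero fun p hp hd => ?_
  rw [card_G] at hd
  have hp' : p = 2 ∨ p = 3 ∨ p = 5 ∨ p = 7 ∨ p = 13 := by
    have h1 : p ∣ 2 ^ 12 * 3 ^ 3 * 5 ^ 2 * 7 * 13 := hd
    have q : ∀ r : ℕ, r.Prime → p ∣ r → p = r := fun r hr h => (Nat.prime_dvd_prime_iff_eq hp hr).1 h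
    simp only [Nat.Prime.dvd_mul hp] at h1
    rcases h1 with (((h1 | h1) | h1) | h1) | h1
    · exact Or.inl (q 2 Nat.prime_two (hp.dvd_of_dvd_pow h1))
    · exact Or.inr (Or.inl (q 3 Nat.prime_three (hp.dvd_of_dvd_pow h1)))
    · exact Or.inr (Or.inr (Or.inl (q 5 (by norm_num) (hp.dvd_of_dvd_pow h1))))
    · exact Or.inr (Or.inr (Or.inr (Or.inl (q 7 (by norm_num) h1))))
    · exact Or.inr (Or.inr (Or.inr (Or.inr (q 13 (by norm_num) h1))))
  haveI := Fact.mk hp
  have hord : ∀ j < 2, ∀ m : ℕ, [7, 13].getD j 0 = m → m.Prime → ¬ m ^ 2 ∣ 251596800 →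
      (Nat.card σ.ker).factorization m = 0 := by
    intro j hj m hm hmp hm2
    haveI := Fact.mk hmp
    obtain ⟨h1, h2, h3⟩ := ord_ok
    have h := List.all_eq_true.1 h2 j (List.mem_range.2 hj)
    simp only [Bool.and_eq_true, Bool.not_eq_true', beq_eq_false_iff_ne, beq_iff_eq, hm] at h
    have hmem := Tails.exists_pick psi hw (Tails.exists_slp psi hw (base_mem slp5_ok.2) slp5_ok.1) h1 j
    have hdd : ordK.getD j (oneK 11 2016) = ordK.getD j 0 := by
      rw [List.getD_eq_getElem _ _ (h3 ▸ hj), List.getD_eq_getElem _ _ (h3 ▸ hj)]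
    rw [hdd] at hmem
    obtain ⟨q, hq⟩ := Tails.exists_orderOf psi hw psi_injective hmem h.1.1 h.1.2 h.2
    exact Tails.factorization_card_ker_of_orderOf σ hσ q (k := 1) (by rw [hq, pow_one]) (by rwa [card_G])
  rcases hp' with rfl | rfl | rfl | rfl | rfl
  · obtain ⟨hs, hDp, hm, hb, hQ⟩ := cert2_shape
    have hs2 := Tails.exists_slp psi hw (base_mem slp2_ok.2) slp2_ok.1
    have := Tails.factorization_of_perm psi hw psi_injective cert2
      (Tails.exists_pick _ hw hs2 pick2_ok.1) (Tails.exists_pick _ hw hs2 pick2_ok.2)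
      cert2_eqs cert2_comb hs rels2_ok.1 rels2_ok.2 (p := 2) hDp hm all2_ok.1 all2_ok.2 inner2_ok.1 inner2_ok.2
      card_G hQ Γ σ hσ
    rwa [hb] at this
  · obtain ⟨hs, hDp, hm, hb, hQ⟩ := cert3_shape
    have hs3 := Tails.exists_slp psi hw (base_mem slp3_ok.2) slp3_ok.1
    have := Tails.factorization_of_perm psi hw psi_injective cert3
      (Tails.exists_pick _ hw hs3 pick3_ok.1) (Tails.exists_pick _ hw hs3 pick3_ok.2)
      cert3_eqs cert3_comb hs rels3_ok.1 rels3_ok.2 (p := 3) hDp hm all3_ok.1 all3_ok.2 inner3_ok.1 inner3_ok.2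
      card_G hQ Γ σ hσ
    rw [hb, Nat.factorization_one] at this
    exact this.trans (Nat.zero_le _)
  · obtain ⟨hs, hDp, hm, hb, hQ⟩ := cert5_shape
    have hs5 := Tails.exists_slp psi hw (base_mem slp5_ok.2) slp5_ok.1
    have := Tails.factorization_of_perm psi hw psi_injective cert5
      (Tails.exists_pick _ hw hs5 pick5_ok.1) (Tails.exists_pick _ hw hs5 pick5_ok.2)
      cert5_eqs cert5_comb hs rels5_ok.1 rels5_ok.2 (p := 5) hDp hm all5_ok.1 all5_ok.2 inner5_ok.1 inner5_ok.2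
      card_G hQ Γ σ hσ
    rw [hb, Nat.factorization_one] at this
    exact this.trans (Nat.zero_le _)
  · rw [hord 0 (by norm_num) 7 rfl (by norm_num) (by norm_num)]; exact Nat.zero_le _
  · rw [hord 1 (by norm_num) 13 rfl (by norm_num) (by norm_num)]; exact Nat.zero_le _

/-- Groups of equal data. -/
noncomputable def datumEquiv {F : Type*} [Field F] {D D' : Cfsg.Lie.ChevalleyDatum} (h : D = D') :
    ↥(D.group F) ≃* ↥(D'.group F) := by
  subst h; exact MulEquiv.refl _

theorem hasMultiplier : Cfsg.HasCyclicSchurMultiplier G 2 := by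
  haveI : Finite G := Nat.finite_of_card_ne_zero (by rw [card_G]; norm_num)
  haveI : Fact (Nat.Prime 2) := ⟨Nat.prime_two⟩
  exact Basic.hasSchurMultiplier_of_le _ isStem
    (mulEquivOfPrimeCardEq (p := 2) card_ker (by simp [Nat.card_eq_fintype_card]))
    fun Δ _ _ τ hτ => (card_ker_le Δ τ hτ).trans (le_of_eq (by simp [Nat.card_eq_fintype_card]))

set_option maxHeartbeats 1000000 in
/-- Over any field with four elements. -/
theorem hasMultiplier_group {F : Type*} [Field F] [Fintype F] (hF : Fintype.card F = 4) :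
    Cfsg.HasCyclicSchurMultiplier ↥(Cfsg.Lie.chevG2.group F) 2 := by
  haveI : Finite G := Nat.finite_of_card_ne_zero (by rw [card_G]; norm_num)
  have e : FieldFour ≃+* F := FiniteField.ringEquivOfCardEq (FieldFour.card_eq.trans hF.symm)
  have f : G ≃* ↥(CfsgLib.Chevalley.Data.G2.tbl.datum.group F) :=
    CfsgLib.Chevalley.G2Two.groupEquiv e _
  have d : ↥(CfsgLib.Chevalley.Data.G2.tbl.datum.group F) ≃* ↥(Cfsg.Lie.chevG2.group F) :=
    datumEquiv CfsgLib.Chevalley.Data.G2.datum_eq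
  have g : G ≃* ↥(Cfsg.Lie.chevG2.group F) := f.trans d
  exact Basic.hasSchurMultiplier_of_mulEquiv g hasMultiplier

end CfsgLib.Schur.GTwoFour
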