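import Cfsg.Agent.Lib.Schur.GTwoFour.Data
import Cfsg.Agent.Lib.Sporadic.G2FourVec
import Cfsg.Agent.Lib.Sporadic.OutCert.Perm

/-!
Kernel checks: root elements of `G₂(4)` permute 2016 covectors as stored.
-/

set_option autoImplicit false
set_option maxRecDepth 100000
set_option maxHeartbeats 0
set_option Elab.async false

namespace CfsgLib.Schur.GTwoFour

open CfsgLib.Sporadic.G2Four CfsgLib.Sporadic.OutCert

/-- The code of a point. -/
noncomputable def codeN (i : ℕ) : ℕ := lk 14 ptsK i

/-- A covector times one plus sparse entries. -/
def actN : List (ℕ × ℕ × ℕ) → ℕ → ℕ → ℕ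
  | [], _, acc => acc
  | e :: es, n, acc => actN es n (acc ^^^ (mulN (coordN n e.1) e.2.2 <<< (2 * e.2.1)))

/-- The image of a point under a root element is as stored. -/
noncomputable def imgOK (q i : ℕ) : Bool :=
  Nat.blt (lk 11 (trK.getD q 0) i) 2016 &&
    Nat.beq (actN (ents.getD q []) (codeN i) (codeN i)) (codeN (lk 11 (trK.getD q 0) i))

theorem img_all : allF (fun q => allF (imgOK q) 2016) 36 = true := by decide +kernel

/-- A point is found from its code. -/
noncomputable def placeOK (i : ℕ) : Bool := Nat.beq (lk 11 placeK (codeN i)) (i + 1)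

theorem place_all : allF placeOK 2016 = true := by decide +kernel

theorem ents_ok : allF (fun q => (ents.getD q []).all fun e =>
    Nat.blt e.1 7 && Nat.blt e.2.1 7 && Nat.blt e.2.2 4) 36 = true := by decide +kernel

/-- An image of a point under a word in listed permutations. -/
noncomputable def wImg (ks : List ℕ) (l : List ℕ) (i : ℕ) : ℕ :=
  List.rec (motive := fun _ => ℕ) i (fun m _ ih => lk 11 (ks.getD m 0) ih) l

/-- The eight root elements. -/
noncomputable def eightK : List ℕ := eightIx.map fun q => trK.getD q 0

/-- A word in listed permutations equals another. -/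
noncomputable def wordOK (ks : List ℕ) (l : List ℕ) (k : ℕ) : Bool :=
  l.all (fun m => Nat.blt m ks.length) && allF (fun i => Nat.beq (wImg ks l i) (lk 11 k i)) 2016

theorem words_def : allF (fun m => wordOK eightK (defW.getD m []) (baseK.getD m 0)) 2 = true := by decide +kernel

theorem words_back : allF (fun m => wordOK baseK (backW.getD m []) (eightK.getD m 0)) 8 = true := by decide +kernel

theorem words_root : allF (fun q => wordOK eightK (rootW.getD q []) (trK.getD q 0)) 36 = true := by decide +kernel

theorem eight_lt : baseK.length = 2 ∧ eightK.length = 8 ∧ eightIx.all (fun q => Nat.blt q 36) = true := by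
  decide +kernel

theorem moved : lk 11 (baseK.getD 1 0) 0 ≠ 0 ∨ lk 11 (baseK.getD 1 0) 1 ≠ 1 := by decide +kernel

end CfsgLib.Schur.GTwoFour
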