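import Cfsg.Agent.Lib.Schur.GTwoFour.Rep
import Cfsg.Agent.Lib.Schur.GTwoFour.ModelCheck
import Cfsg.Agent.Lib.Chevalley.TablesCerts
import Cfsg.Agent.S1055
import Cfsg.Agent.S1059

/-!
`G₂(4)` acting on 2016 covectors of the representation on seven coordinates.
-/

set_option autoImplicit false
set_option maxRecDepth 20000
set_option maxHeartbeats 1000000

namespace CfsgLib.Schur.GTwoFour

open CfsgLib.Chevalley CfsgLib.Sporadic CfsgLib.Sporadic.G2Four CfsgLib.Sporadic.OutCert
open scoped Matrix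

/-- The group. -/
abbrev G : Type := ↥(Data.G2.tbl.datum.group FieldFour)

/-- A vector from its code. -/
def vec (n : ℕ) : Fin 7 → FieldFour := fun k => ofN (coordN n k.val)

/-- A point as a covector. -/
noncomputable def gv (i : Fin 2016) : Fin 7 → FieldFour := vec (codeN i)

/-- One plus sparse entries. -/
noncomputable def entM7 : List (ℕ × ℕ × ℕ) → Matrix (Fin 7) (Fin 7) FieldFour
  | [] => 0
  | e :: es => Matrix.single (Fin.ofNat 7 e.1) (Fin.ofNat 7 e.2.1) (ofN e.2.2) + entM7 es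

theorem vec_add (c : ℕ) {x : ℕ} (hx : x < 4) {r : ℕ} (hr : r < 7) :
    vec (c ^^^ (x <<< (2 * r))) = vec c + Pi.single (Fin.ofNat 7 r) (ofN x) := by
  funext k
  rw [Pi.add_apply, Pi.single_apply]
  show ofN (coordN (c ^^^ (x <<< (2 * r))) k.val) = ofN (coordN c k.val) + _
  rw [coordN_xor, coordN_shift hx]
  have hk : k = Fin.ofNat 7 r ↔ k.val = r := by rw [Fin.ext_iff, Fin.val_ofNat, Nat.mod_eq_of_lt hr]
  by_cases h : k.val = r
  · rw [if_pos h, if_pos (hk.2 h), ofN_xor _ (coordN_lt _ _) _ hx]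
  · rw [if_neg h, if_neg (fun e => h (hk.1 e)), Nat.xor_zero, add_zero]

theorem vec_actN : ∀ (es : List (ℕ × ℕ × ℕ)), (∀ e ∈ es, e.1 < 7 ∧ e.2.1 < 7 ∧ e.2.2 < 4) →
    ∀ n acc : ℕ, vec (actN es n acc) = vec acc + vec n ᵥ* entM7 es
  | [], _, n, acc => by simp [actN, entM7]
  | e :: es, h, n, acc => by
    obtain ⟨h1, h2, h3⟩ := h e List.mem_cons_self
    rw [actN, vec_actN es (fun x hx => h x (List.mem_cons_of_mem _ hx)),
      vec_add acc (ofN_mulN _ (coordN_lt _ _) _ h3).2 h2, (ofN_mulN _ (coordN_lt _ _) _ h3).1, entM7,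
      Matrix.vecMul_add, add_assoc]
    congr 2
    funext k
    rw [Pi.single_apply, Matrix.vecMul, dotProduct, Finset.sum_eq_single (Fin.ofNat 7 e.1)]
    · have he : vec n (Fin.ofNat 7 e.1) = ofN (coordN n e.1) := by
        simp [vec, Fin.val_ofNat, Nat.mod_eq_of_lt h1]
      by_cases hk : k = Fin.ofNat 7 e.2.1
      · subst hk; rw [if_pos rfl, Matrix.single_apply_same, he]
      · rw [if_neg hk]
        rw [Matrix.single_apply, if_neg (fun h => hk h.2.symm), mul_zero]
    · intro a _ ha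
      rw [Matrix.single_apply_of_row_ne (Ne.symm ha), mul_zero]
    · exact fun h => absurd (Finset.mem_univ _) h

/-- A root matrix. -/
noncomputable def xM7 (r : ℕ) (t : FieldFour) : Fin 7 → Fin 7 → FieldFour :=
  Natural.xM (D := natG2) (Equiv.refl (Fin natG2.n)) r t

/-- A stored matrix. -/
noncomputable def entF (q : ℕ) : Fin 7 → Fin 7 → FieldFour :=
  (1 + entM7 (ents.getD q []) : Matrix (Fin 7) (Fin 7) FieldFour)

theorem xM_check : ∀ (r : Fin 12) (t : Fin 3) (i j : Fin 7),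
    xM7 r.val (ofN (t.val + 1)) i j = entF (3 * r.val + t.val) i j := by
  decide +kernel

theorem n12 : Data.G2.tbl.n = 12 := rfl

/-- A root element. -/
noncomputable def root (q : ℕ) : G :=
  Tbl.stProj (F := FieldFour) st_ok (Data.G2.tbl.sX FieldFour (q / 3) (ofN (q % 3 + 1)))

theorem rep_root_inv {q : ℕ} (hq : q < 36) :
    ((rep7 (F := FieldFour) (root q)⁻¹ : GL (Fin 7) FieldFour) : Matrix (Fin 7) (Fin 7) FieldFour) =
      1 + entM7 (ents.getD q []) := by
  have hr : q / 3 < Data.G2.tbl.n := by rw [n12]; omega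
  have hsq : ∀ t : FieldFour, rep7 (F := FieldFour) (Tbl.stProj (F := FieldFour) st_ok (Data.G2.tbl.sX FieldFour (q / 3) t)) *
      rep7 (F := FieldFour) (Tbl.stProj (F := FieldFour) st_ok (Data.G2.tbl.sX FieldFour (q / 3) t)) = 1 := fun t => by
    refine Units.ext ?_
    rw [Units.val_mul, rep7_root hr, Units.val_one]
    refine (Natural.xM_mul (Equiv.refl (Fin natG2.n)) natG2_ok hr t t).trans ?_
    rw [(show ∀ t : FieldFour, t + t = 0 by decide) t]
    exact Natural.xM_zero' (Equiv.refl (Fin natG2.n)) natG2_ok hr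
  rw [map_inv, root, inv_eq_of_mul_eq_one_left (hsq _), rep7_root hr]
  have h := fun i j => xM_check ⟨q / 3, hr⟩ ⟨q % 3, Nat.mod_lt _ (by norm_num)⟩ i j
  simp only [Nat.div_add_mod, xM7, entF] at h
  exact Matrix.ext h

theorem img_spec {q : ℕ} (hq : q < 36) (i : Fin 2016) : ∃ h : lk 11 (trK.getD q 0) i < 2016,
    gv i ᵥ* ((rep7 (F := FieldFour) (root q)⁻¹ : GL (Fin 7) FieldFour) : Matrix (Fin 7) (Fin 7) FieldFour) =
      gv ⟨_, h⟩ := by
  have hb := allF_iff.1 (allF_iff.1 img_all q hq) i i.2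
  simp only [imgOK, Bool.and_eq_true, Nat.blt_eq, Nat.beq_eq] at hb
  refine ⟨hb.1, ?_⟩
  have he := allF_iff.1 ents_ok q hq
  simp only [List.all_eq_true, Bool.and_eq_true, Nat.blt_eq] at he
  rw [rep_root_inv hq, Matrix.vecMul_add, Matrix.vecMul_one, gv, gv]
  show _ = vec (codeN (lk 11 (trK.getD q 0) i))
  rw [← hb.2, vec_actN _ (fun e h => ⟨(he e h).1.1, (he e h).1.2, (he e h).2⟩)]

theorem vec_inj {a b : ℕ} (ha : a < 2 ^ 14) (hb : b < 2 ^ 14) (h : vec a = vec b) : a = b := by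
  have inj : ∀ x < 4, ∀ y < 4, ofN x = ofN y → x = y := by decide
  have hd : ∀ k < 7, a / 4 ^ k % 4 = b / 4 ^ k % 4 := fun k hk => by
    have := inj _ (coordN_lt _ _) _ (coordN_lt _ _) (congrFun h ⟨k, hk⟩)
    simp [coordN, Nat.shiftRight_eq_div_pow, pow_mul] at this
    exact this
  have h0 := hd 0 (by norm_num)
  have h1 := hd 1 (by norm_num)
  have h2 := hd 2 (by norm_num)
  have h3 := hd 3 (by norm_num)
  have h4 := hd 4 (by norm_num)
  have h5 := hd 5 (by norm_num)
  have h6 := hd 6 (by norm_num)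
  norm_num at h0 h1 h2 h3 h4 h5 h6
  omega

theorem gv_inj : Function.Injective gv := fun i j h => by
  have hlt : ∀ i, codeN i < 2 ^ 14 := fun i => Nat.mod_lt _ (Nat.two_pow_pos 14)
  have e := vec_inj (hlt i) (hlt j) h
  have hi := allF_iff.1 place_all i i.2
  have hj := allF_iff.1 place_all j j.2
  simp only [placeOK, Nat.beq_eq] at hi hj
  rw [e, hj] at hi
  exact Fin.ext (by omega)

/-- The elements permuting the points. -/
def keep : Subgroup G where
  carrier := {g | ∃ p : Equiv.Perm (Fin 2016), ∀ i,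
    gv i ᵥ* ((rep7 (F := FieldFour) g⁻¹ : GL (Fin 7) FieldFour) : Matrix (Fin 7) (Fin 7) FieldFour) = gv (p i)}
  one_mem' := ⟨1, fun i => by simp⟩
  mul_mem' := by
    rintro g h ⟨p, hp⟩ ⟨q, hq⟩
    refine ⟨p * q, fun i => ?_⟩
    rw [_root_.mul_inv_rev, map_mul, Units.val_mul, ← Matrix.vecMul_vecMul, hq, hp]
    rfl
  inv_mem' := by
    rintro g ⟨p, hp⟩
    refine ⟨p⁻¹, fun i => ?_⟩
    have h := hp (p⁻¹ i)
    rw [show p (p⁻¹ i) = i from p.apply_symm_apply i] at h
    rw [inv_inv, ← h, Matrix.vecMul_vecMul, ← Units.val_mul, ← map_mul, inv_mul_cancel, map_one, Units.val_one,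
      Matrix.vecMul_one]

theorem closure_root : Subgroup.closure (root '' Set.Iio 36) = ⊤ := by
  refine eq_top_iff.2 fun g _ => ?_
  obtain ⟨x, rfl⟩ := Tbl.stProj_surjective (F := FieldFour) st_ok g
  refine (?_ : (⊤ : Subgroup _) ≤ (Subgroup.closure (root '' Set.Iio 36)).comap
    (Tbl.stProj (F := FieldFour) st_ok)) (Subgroup.mem_top x)
  rw [← PresentedGroup.closure_range_of (Data.G2.tbl.datum.steinbergRels FieldFour), Subgroup.closure_le]
  rintro _ ⟨⟨r, t⟩, rfl⟩
  rw [SetLike.mem_coe, Subgroup.mem_comap]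
  have e : (PresentedGroup.of (rels := Data.G2.tbl.datum.steinbergRels FieldFour) (r, t)) =
      Data.G2.tbl.sX FieldFour r.val t := by
    rw [Tbl.sX, Cfsg.Lie.ChevalleyDatum.stGen, Cfsg.Lie.ChevalleyDatum.stX, dif_pos r.2]
    rfl
  rw [e]
  obtain ⟨k, hk, rfl⟩ : ∃ k : ℕ, k < 4 ∧ ofN k = t :=
    (show ∀ a : FieldFour, ∃ k : ℕ, k < 4 ∧ ofN k = a by decide) t
  have hr : r.val < 12 := r.2
  rcases Nat.eq_zero_or_pos k with rfl | hk0
  · refine (show Tbl.stProj (F := FieldFour) st_ok (Data.G2.tbl.sX FieldFour r.val (ofN 0)) = 1 by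
      rw [ofN_zero]
      refine Subtype.ext ?_
      show st_ok.hom FieldFour (Data.G2.tbl.sX FieldFour r.val 0) = 1
      rw [Tbl.hom_sX st_ok hr, Tbl.xU_zero Data.G2.valid hr]) ▸ one_mem _
  · refine Subgroup.subset_closure ⟨3 * r.val + (k - 1), by simp; omega, ?_⟩
    rw [root, show (3 * r.val + (k - 1)) / 3 = r.val by omega, show (3 * r.val + (k - 1)) % 3 + 1 = k by omega]

theorem keep_top : keep = ⊤ := by
  refine eq_top_iff.2 (closure_root ▸ (Subgroup.closure_le _).2 ?_)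
  rintro _ ⟨q, hq, rfl⟩
  choose hj e using img_spec (q := q) hq
  have hinj : Function.Injective (fun i => (⟨_, hj i⟩ : Fin 2016)) := fun a b h => by
    refine gv_inj (Matrix.vecMul_injective_iff_isUnit.2 (Units.isUnit (rep7 (F := FieldFour) (root q)⁻¹)) ?_)
    show gv a ᵥ* _ = gv b ᵥ* _
    rw [e, e]
    exact congrArg gv h
  exact ⟨Equiv.ofBijective _ (Finite.injective_iff_bijective.mp hinj), e⟩

theorem exists_perm (g : G) : ∃ p : Equiv.Perm (Fin 2016), ∀ i,
    gv i ᵥ* ((rep7 (F := FieldFour) g⁻¹ : GL (Fin 7) FieldFour) : Matrix (Fin 7) (Fin 7) FieldFour) = gv (p i) :=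
  (keep_top.symm ▸ Subgroup.mem_top g : g ∈ keep)

/-- The action on the points. -/
noncomputable def psi : G →* Equiv.Perm (Fin 2016) :=
  MonoidHom.mk' (fun g => (exists_perm g).choose) fun a b => Equiv.ext fun i => gv_inj (by
    rw [← (exists_perm (a * b)).choose_spec i, Equiv.Perm.mul_apply, ← (exists_perm a).choose_spec,
      ← (exists_perm b).choose_spec, _root_.mul_inv_rev, map_mul, Units.val_mul, Matrix.vecMul_vecMul])

theorem rep_root {q : ℕ} (hq : q < 36) : Rep 11 2016 (trK.getD q 0) (psi (root q)) := fun i => by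
  obtain ⟨hj, e⟩ := img_spec hq i
  exact congrArg Fin.val (gv_inj (e.symm.trans ((exists_perm (root q)).choose_spec i)))

theorem card_G : Nat.card G = 251596800 := by
  show Nat.card ↥(Data.G2.tbl.datum.group FieldFour) = _
  rw [Data.G2.datum_eq, Cfsg.Agent.S1059.result (F := FieldFour) (q := 4) FieldFour.card_eq]
  norm_num

theorem isSimple_G : IsSimpleGroup G :=
  (Tbl.simple_group Data.G2.valid Data.G2.chkComm (fun _ => ⟨ofN 2, by decide, by decide⟩)
    Data.G2.chkPerfect Data.G2.chkConn).1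

theorem exists_wImg {ks : List ℕ} {l : List ℕ} (hks : ∀ m < ks.length, ∃ g : G, Rep 11 2016 (ks.getD m 0) (psi g))
    (hl : ∀ m ∈ l, m < ks.length) : ∃ g : G, ∀ i : Fin 2016, wImg ks l i = (psi g i : ℕ) := by
  induction l with
  | nil => exact ⟨1, fun i => by simp [wImg]⟩
  | cons m l ih =>
    obtain ⟨g, hg⟩ := ih fun x hx => hl x (List.mem_cons_of_mem _ hx)
    obtain ⟨g', hg'⟩ := hks m (hl m List.mem_cons_self)
    refine ⟨g' * g, fun i => ?_⟩
    show lk 11 (ks.getD m 0) (wImg ks l i) = _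
    rw [hg i, hg' _, map_mul, Equiv.Perm.mul_apply]

theorem eight_rep (m : ℕ) (hm : m < eightK.length) : ∃ g : G, Rep 11 2016 (eightK.getD m 0) (psi g) := by
  have hm' : m < eightIx.length := by simpa [eightK] using hm
  refine ⟨root (eightIx.getD m 0), ?_⟩
  rw [show eightK.getD m 0 = trK.getD (eightIx.getD m 0) 0 by
    simp [eightK, List.getD_eq_getElem?_getD, List.getElem?_eq_getElem hm']]
  refine rep_root ?_
  have h := List.all_eq_true.1 eight_lt.2.2 _ (List.getElem_mem hm')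
  rw [Nat.blt_eq] at h
  rwa [List.getD_eq_getElem _ _ hm']

theorem gen_exists (m : Fin 2) : ∃ g : G, Rep 11 2016 (baseK.getD m 0) (psi g) := by
  have h := allF_iff.1 words_def m m.2
  simp only [wordOK, Bool.and_eq_true, List.all_eq_true, Nat.blt_eq, allF_iff, Nat.beq_eq] at h
  obtain ⟨g, hg⟩ := exists_wImg eight_rep h.1
  exact ⟨g, fun i => (h.2 i i.2).symm.trans (hg i)⟩

/-- The two generators. -/
noncomputable def gen (m : Fin 2) : G := (gen_exists m).choose

theorem gen_rep (m : Fin 2) : Rep 11 2016 (baseK.getD m 0) (psi (gen m)) := (gen_exists m).choose_spec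

theorem psi_injective : Function.Injective psi := by
  haveI := isSimple_G
  rw [← MonoidHom.ker_eq_bot_iff]
  refine psi.normal_ker.eq_bot_or_eq_top.resolve_right fun htop => ?_
  have hr := gen_rep 1
  rw [show psi (gen 1) = 1 from MonoidHom.mem_ker.1 (htop ▸ Subgroup.mem_top _)] at hr
  rcases moved with h | h
  · exact h (hr 0)
  · exact h (hr 1)

end CfsgLib.Schur.GTwoFour
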