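import Cfsg.Agent.Lib.Schur.GTwoFour.RepCheck
import Cfsg.Agent.Lib.Chevalley.Data.SmithCerts
import Cfsg.Agent.Lib.Chevalley.SteinbergTorus

/-!
The homomorphism from the adjoint group of type G₂ to seven by seven matrices.
-/

set_option autoImplicit false
set_option maxRecDepth 20000

namespace CfsgLib.Schur.GTwoFour

open CfsgLib.Chevalley

variable {F : Type*} [Field F]

theorem st_ok : Data.G2.tbl.StOk :=
  ⟨Data.G2.valid, Data.G2.chkComm, Data.G2.chkSorted, Data.G2.chkSplit⟩

theorem center_bot : Subgroup.center (Data.G2.tbl.datum.SteinbergGroup F) = ⊥ :=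
  Tbl.center_eq_bot st_ok (Tbl.torusHom_injective_of_smith st_ok.valid Data.G2.chkSmith (by decide))

theorem stProj_bijective : Function.Bijective (Tbl.stProj (F := F) st_ok) :=
  ⟨(MonoidHom.ker_eq_bot_iff _).1 ((Tbl.stProj_ker (F := F) st_ok).trans center_bot), Tbl.stProj_surjective st_ok⟩

/-- The presented group is the adjoint group. -/
noncomputable def stEquiv : Data.G2.tbl.datum.SteinbergGroup F ≃* ↥(Data.G2.tbl.datum.group F) :=
  MulEquiv.ofBijective _ stProj_bijective

/-- The action of the adjoint group on seven coordinates. -/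
noncomputable def rep7 : ↥(Data.G2.tbl.datum.group F) →* GL (Fin 7) F :=
  (Natural.repHom (Equiv.refl (Fin natG2.n)) natG2_ok st_ok.valid).comp stEquiv.symm.toMonoidHom

theorem rep7_root {r : ℕ} (hr : r < Data.G2.tbl.n) (t : F) :
    (rep7 (Tbl.stProj (F := F) st_ok (Data.G2.tbl.sX F r t)) : Matrix (Fin 7) (Fin 7) F) =
      (Natural.xM (D := natG2) (Equiv.refl (Fin natG2.n)) r t : Matrix (Fin natG2.n) (Fin natG2.n) F) := by
  show ((Natural.repHom (Equiv.refl (Fin natG2.n)) natG2_ok st_ok.valid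
    (stEquiv.symm (stEquiv (Data.G2.tbl.sX F r t))) : GL (Fin natG2.n) F) : Matrix (Fin natG2.n) (Fin natG2.n) F) = _
  rw [MulEquiv.symm_apply_apply, Natural.repHom_sX _ natG2_ok st_ok.valid hr, Natural.xN_val _ natG2_ok hr]

end CfsgLib.Schur.GTwoFour
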