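import Cfsg.Agent.Lib.Chevalley.Natural.NatRep
import Cfsg.Agent.Lib.Chevalley.TablesSt

/-!
The representation of type G₂ on seven coordinates: kernel checks of its relations.
-/

set_option autoImplicit false
set_option maxRecDepth 20000
set_option Elab.async false

namespace CfsgLib.Schur.GTwoFour

open CfsgLib.Chevalley

/-- The natural representation of type G2. -/
def natG2 : Natural.RepData where
  n := 7
  dat r := [
    [(1, 0, 5, -1), (1, 1, 6, -1)],
    [(1, 0, 4, -1), (1, 2, 6, 1)],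
    [(1, 0, 3, -2), (1, 1, 4, 1), (1, 2, 5, 1), (1, 3, 6, -1), (2, 0, 6, 1)],
    [(1, 0, 2, 1), (1, 1, 3, -2), (1, 3, 5, 1), (1, 4, 6, -1), (2, 1, 5, -1)],
    [(1, 0, 1, 1), (1, 2, 3, 2), (1, 3, 4, 1), (1, 5, 6, 1), (2, 2, 4, 1)],
    [(1, 1, 2, 1), (1, 4, 5, 1)],
    [(1, 2, 1, 1), (1, 5, 4, 1)],
    [(1, 1, 0, 1), (1, 3, 2, 1), (1, 4, 3, 2), (1, 6, 5, 1), (2, 4, 2, 1)],
    [(1, 2, 0, 1), (1, 3, 1, -1), (1, 5, 3, 2), (1, 6, 4, -1), (2, 5, 1, -1)],
    [(1, 3, 0, -1), (1, 4, 1, 1), (1, 5, 2, 1), (1, 6, 3, -2), (2, 6, 0, 1)],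
    [(1, 4, 0, -1), (1, 6, 2, 1)],
    [(1, 5, 0, -1), (1, 6, 1, -1)]].getD r []

theorem tor_ok0 : Natural.pEqL (natG2.hP Data.G2.tbl 0) (natG2.diagP Data.G2.tbl 0) = true := by decide +kernel

theorem tor_ok1 : Natural.pEqL (natG2.hP Data.G2.tbl 1) (natG2.diagP Data.G2.tbl 1) = true := by decide +kernel

theorem tor_ok2 : Natural.pEqL (natG2.hP Data.G2.tbl 2) (natG2.diagP Data.G2.tbl 2) = true := by decide +kernel

theorem tor_ok3 : Natural.pEqL (natG2.hP Data.G2.tbl 3) (natG2.diagP Data.G2.tbl 3) = true := by decide +kernel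

theorem tor_ok4 : Natural.pEqL (natG2.hP Data.G2.tbl 4) (natG2.diagP Data.G2.tbl 4) = true := by decide +kernel

theorem tor_ok5 : Natural.pEqL (natG2.hP Data.G2.tbl 5) (natG2.diagP Data.G2.tbl 5) = true := by decide +kernel

theorem tor_ok6 : Natural.pEqL (natG2.hP Data.G2.tbl 6) (natG2.diagP Data.G2.tbl 6) = true := by decide +kernel

theorem tor_ok7 : Natural.pEqL (natG2.hP Data.G2.tbl 7) (natG2.diagP Data.G2.tbl 7) = true := by decide +kernel

theorem tor_ok8 : Natural.pEqL (natG2.hP Data.G2.tbl 8) (natG2.diagP Data.G2.tbl 8) = true := by decide +kernel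

theorem tor_ok9 : Natural.pEqL (natG2.hP Data.G2.tbl 9) (natG2.diagP Data.G2.tbl 9) = true := by decide +kernel

theorem tor_ok10 : Natural.pEqL (natG2.hP Data.G2.tbl 10) (natG2.diagP Data.G2.tbl 10) = true := by decide +kernel

theorem tor_ok11 : Natural.pEqL (natG2.hP Data.G2.tbl 11) (natG2.diagP Data.G2.tbl 11) = true := by decide +kernel

theorem natG2_ok : Natural.RepOk natG2 Data.G2.tbl where
  deg := by decide +kernel
  add := by decide +kernel
  comm := by decide +kernel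
  tor := allLt_iff.mpr fun r hr => by
    have hn : Data.G2.tbl.n = 12 := rfl
    rw [hn] at hr
    match r, hr with
    | 0, _ => exact tor_ok0
    | 1, _ => exact tor_ok1
    | 2, _ => exact tor_ok2
    | 3, _ => exact tor_ok3
    | 4, _ => exact tor_ok4
    | 5, _ => exact tor_ok5
    | 6, _ => exact tor_ok6
    | 7, _ => exact tor_ok7
    | 8, _ => exact tor_ok8
    | 9, _ => exact tor_ok9
    | 10, _ => exact tor_ok10
    | 11, _ => exact tor_ok11
    | k + 12, h => omega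

end CfsgLib.Schur.GTwoFour
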